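import Cfsg.Agent.H91.Th.Cert
import Cfsg.Agent.H91.Th.DC.Append
import Cfsg.Agent.H91.Th.Data.States
import Cfsg.Agent.H91.Th.Data.Deds1

/-! Part 1 of the deductions. -/

set_option autoImplicit false
set_option maxRecDepth 100000
set_option Elab.async false

namespace H91.Th

theorem deds1_0_ok : cert.dedAll Data.known1 Data.deds1_0 = some Data.mid1_1 := by decide +kernel

theorem deds1_1_ok : cert.dedAll Data.mid1_1 Data.deds1_1 = some Data.mid1_2 := by decide +kernel

theorem deds1_2_ok : cert.dedAll Data.mid1_2 Data.deds1_2 = some Data.mid1_3 := by decide +kernel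

theorem deds1_3_ok : cert.dedAll Data.mid1_3 Data.deds1_3 = some Data.mid1_4 := by decide +kernel

theorem deds1_4_ok : cert.dedAll Data.mid1_4 Data.deds1_4 = some Data.mid1_5 := by decide +kernel

theorem deds1_5_ok : cert.dedAll Data.mid1_5 Data.deds1_5 = some Data.mid1_6 := by decide +kernel

theorem deds1_6_ok : cert.dedAll Data.mid1_6 Data.deds1_6 = some Data.mid1_7 := by decide +kernel

theorem deds1_7_ok : cert.dedAll Data.mid1_7 Data.deds1_7 = some Data.mid1_8 := by decide +kernel

theorem deds1_8_ok : cert.dedAll Data.mid1_8 Data.deds1_8 = some Data.mid1_9 := by decide +kernel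

theorem deds1_9_ok : cert.dedAll Data.mid1_9 Data.deds1_9 = some Data.mid1_10 := by decide +kernel

theorem deds1_10_ok : cert.dedAll Data.mid1_10 Data.deds1_10 = some Data.mid1_11 := by decide +kernel

theorem deds1_11_ok : cert.dedAll Data.mid1_11 Data.deds1_11 = some Data.mid1_12 := by decide +kernel

theorem deds1_12_ok : cert.dedAll Data.mid1_12 Data.deds1_12 = some Data.mid1_13 := by decide +kernel

theorem deds1_13_ok : cert.dedAll Data.mid1_13 Data.deds1_13 = some Data.mid1_14 := by decide +kernel

theorem deds1_14_ok : cert.dedAll Data.mid1_14 Data.deds1_14 = some Data.known2 := by decide +kernel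

theorem deds1_ok : cert.dedAll Data.known1 Data.deds1 = some Data.known2 :=
  DC.Cert.dedAll_append (DC.Cert.dedAll_append (DC.Cert.dedAll_append (DC.Cert.dedAll_append (DC.Cert.dedAll_append (DC.Cert.dedAll_append (DC.Cert.dedAll_append (DC.Cert.dedAll_append (DC.Cert.dedAll_append (DC.Cert.dedAll_append (DC.Cert.dedAll_append (DC.Cert.dedAll_append (DC.Cert.dedAll_append (DC.Cert.dedAll_append (deds1_0_ok) deds1_1_ok) deds1_2_ok) deds1_3_ok) deds1_4_ok) deds1_5_ok) deds1_6_ok) deds1_7_ok) deds1_8_ok) deds1_9_ok) deds1_10_ok) deds1_11_ok) deds1_12_ok) deds1_13_ok) deds1_14_ok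

end H91.Th
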