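import Cfsg.Agent.H91.Th.Cert
import Cfsg.Agent.H91.Th.DC.Append
import Cfsg.Agent.H91.Th.Data.States
import Cfsg.Agent.H91.Th.Data.Deds10

/-! Part 10 of the deductions. -/

set_option autoImplicit false
set_option maxRecDepth 100000
set_option Elab.async false

namespace H91.Th

theorem deds10_0_ok : cert.dedAll Data.known10 Data.deds10_0 = some Data.mid10_1 := by decide +kernel

theorem deds10_1_ok : cert.dedAll Data.mid10_1 Data.deds10_1 = some Data.mid10_2 := by decide +kernel

theorem deds10_2_ok : cert.dedAll Data.mid10_2 Data.deds10_2 = some Data.mid10_3 := by decide +kernel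

theorem deds10_3_ok : cert.dedAll Data.mid10_3 Data.deds10_3 = some Data.mid10_4 := by decide +kernel

theorem deds10_4_ok : cert.dedAll Data.mid10_4 Data.deds10_4 = some Data.mid10_5 := by decide +kernel

theorem deds10_5_ok : cert.dedAll Data.mid10_5 Data.deds10_5 = some Data.mid10_6 := by decide +kernel

theorem deds10_6_ok : cert.dedAll Data.mid10_6 Data.deds10_6 = some Data.mid10_7 := by decide +kernel

theorem deds10_7_ok : cert.dedAll Data.mid10_7 Data.deds10_7 = some Data.mid10_8 := by decide +kernel

theorem deds10_8_ok : cert.dedAll Data.mid10_8 Data.deds10_8 = some Data.mid10_9 := by decide +kernel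

theorem deds10_9_ok : cert.dedAll Data.mid10_9 Data.deds10_9 = some Data.mid10_10 := by decide +kernel

theorem deds10_10_ok : cert.dedAll Data.mid10_10 Data.deds10_10 = some Data.mid10_11 := by decide +kernel

theorem deds10_11_ok : cert.dedAll Data.mid10_11 Data.deds10_11 = some Data.mid10_12 := by decide +kernel

theorem deds10_12_ok : cert.dedAll Data.mid10_12 Data.deds10_12 = some Data.mid10_13 := by decide +kernel

theorem deds10_13_ok : cert.dedAll Data.mid10_13 Data.deds10_13 = some Data.mid10_14 := by decide +kernel

theorem deds10_14_ok : cert.dedAll Data.mid10_14 Data.deds10_14 = some Data.known11 := by decide +kernel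

theorem deds10_ok : cert.dedAll Data.known10 Data.deds10 = some Data.known11 :=
  DC.Cert.dedAll_append (DC.Cert.dedAll_append (DC.Cert.dedAll_append (DC.Cert.dedAll_append (DC.Cert.dedAll_append (DC.Cert.dedAll_append (DC.Cert.dedAll_append (DC.Cert.dedAll_append (DC.Cert.dedAll_append (DC.Cert.dedAll_append (DC.Cert.dedAll_append (DC.Cert.dedAll_append (DC.Cert.dedAll_append (DC.Cert.dedAll_append (deds10_0_ok) deds10_1_ok) deds10_2_ok) deds10_3_ok) deds10_4_ok) deds10_5_ok) deds10_6_ok) deds10_7_ok) deds10_8_ok) deds10_9_ok) deds10_10_ok) deds10_11_ok) deds10_12_ok) deds10_13_ok) deds10_14_ok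

end H91.Th
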