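import Cfsg.Agent.H91.Th.Cert
import Cfsg.Agent.H91.Th.DC.Append
import Cfsg.Agent.H91.Th.Data.States
import Cfsg.Agent.H91.Th.Data.Deds11

/-! Part 11 of the deductions. -/

set_option autoImplicit false
set_option maxRecDepth 100000
set_option Elab.async false

namespace H91.Th

theorem deds11_0_ok : cert.dedAll Data.known11 Data.deds11_0 = some Data.mid11_1 := by decide +kernel

theorem deds11_1_ok : cert.dedAll Data.mid11_1 Data.deds11_1 = some Data.mid11_2 := by decide +kernel

theorem deds11_2_ok : cert.dedAll Data.mid11_2 Data.deds11_2 = some Data.mid11_3 := by decide +kernel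

theorem deds11_3_ok : cert.dedAll Data.mid11_3 Data.deds11_3 = some Data.mid11_4 := by decide +kernel

theorem deds11_4_ok : cert.dedAll Data.mid11_4 Data.deds11_4 = some Data.mid11_5 := by decide +kernel

theorem deds11_5_ok : cert.dedAll Data.mid11_5 Data.deds11_5 = some Data.mid11_6 := by decide +kernel

theorem deds11_6_ok : cert.dedAll Data.mid11_6 Data.deds11_6 = some Data.mid11_7 := by decide +kernel

theorem deds11_7_ok : cert.dedAll Data.mid11_7 Data.deds11_7 = some Data.mid11_8 := by decide +kernel

theorem deds11_8_ok : cert.dedAll Data.mid11_8 Data.deds11_8 = some Data.mid11_9 := by decide +kernel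

theorem deds11_9_ok : cert.dedAll Data.mid11_9 Data.deds11_9 = some Data.mid11_10 := by decide +kernel

theorem deds11_10_ok : cert.dedAll Data.mid11_10 Data.deds11_10 = some Data.mid11_11 := by decide +kernel

theorem deds11_11_ok : cert.dedAll Data.mid11_11 Data.deds11_11 = some Data.mid11_12 := by decide +kernel

theorem deds11_12_ok : cert.dedAll Data.mid11_12 Data.deds11_12 = some Data.mid11_13 := by decide +kernel

theorem deds11_13_ok : cert.dedAll Data.mid11_13 Data.deds11_13 = some Data.known12 := by decide +kernel

theorem deds11_ok : cert.dedAll Data.known11 Data.deds11 = some Data.known12 :=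
  DC.Cert.dedAll_append (DC.Cert.dedAll_append (DC.Cert.dedAll_append (DC.Cert.dedAll_append (DC.Cert.dedAll_append (DC.Cert.dedAll_append (DC.Cert.dedAll_append (DC.Cert.dedAll_append (DC.Cert.dedAll_append (DC.Cert.dedAll_append (DC.Cert.dedAll_append (DC.Cert.dedAll_append (DC.Cert.dedAll_append (deds11_0_ok) deds11_1_ok) deds11_2_ok) deds11_3_ok) deds11_4_ok) deds11_5_ok) deds11_6_ok) deds11_7_ok) deds11_8_ok) deds11_9_ok) deds11_10_ok) deds11_11_ok) deds11_12_ok) deds11_13_ok

end H91.Th
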