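import Cfsg.Agent.H91.Th.Cert
import Cfsg.Agent.H91.Th.DC.Append
import Cfsg.Agent.H91.Th.Data.States
import Cfsg.Agent.H91.Th.Data.Deds2

/-! Part 2 of the deductions. -/

set_option autoImplicit false
set_option maxRecDepth 100000
set_option Elab.async false

namespace H91.Th

theorem deds2_0_ok : cert.dedAll Data.known2 Data.deds2_0 = some Data.mid2_1 := by decide +kernel

theorem deds2_1_ok : cert.dedAll Data.mid2_1 Data.deds2_1 = some Data.mid2_2 := by decide +kernel

theorem deds2_2_ok : cert.dedAll Data.mid2_2 Data.deds2_2 = some Data.mid2_3 := by decide +kernel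

theorem deds2_3_ok : cert.dedAll Data.mid2_3 Data.deds2_3 = some Data.mid2_4 := by decide +kernel

theorem deds2_4_ok : cert.dedAll Data.mid2_4 Data.deds2_4 = some Data.mid2_5 := by decide +kernel

theorem deds2_5_ok : cert.dedAll Data.mid2_5 Data.deds2_5 = some Data.mid2_6 := by decide +kernel

theorem deds2_6_ok : cert.dedAll Data.mid2_6 Data.deds2_6 = some Data.mid2_7 := by decide +kernel

theorem deds2_7_ok : cert.dedAll Data.mid2_7 Data.deds2_7 = some Data.mid2_8 := by decide +kernel

theorem deds2_8_ok : cert.dedAll Data.mid2_8 Data.deds2_8 = some Data.mid2_9 := by decide +kernel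

theorem deds2_9_ok : cert.dedAll Data.mid2_9 Data.deds2_9 = some Data.mid2_10 := by decide +kernel

theorem deds2_10_ok : cert.dedAll Data.mid2_10 Data.deds2_10 = some Data.mid2_11 := by decide +kernel

theorem deds2_11_ok : cert.dedAll Data.mid2_11 Data.deds2_11 = some Data.mid2_12 := by decide +kernel

theorem deds2_12_ok : cert.dedAll Data.mid2_12 Data.deds2_12 = some Data.mid2_13 := by decide +kernel

theorem deds2_13_ok : cert.dedAll Data.mid2_13 Data.deds2_13 = some Data.mid2_14 := by decide +kernel

theorem deds2_14_ok : cert.dedAll Data.mid2_14 Data.deds2_14 = some Data.known3 := by decide +kernel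

theorem deds2_ok : cert.dedAll Data.known2 Data.deds2 = some Data.known3 :=
  DC.Cert.dedAll_append (DC.Cert.dedAll_append (DC.Cert.dedAll_append (DC.Cert.dedAll_append (DC.Cert.dedAll_append (DC.Cert.dedAll_append (DC.Cert.dedAll_append (DC.Cert.dedAll_append (DC.Cert.dedAll_append (DC.Cert.dedAll_append (DC.Cert.dedAll_append (DC.Cert.dedAll_append (DC.Cert.dedAll_append (DC.Cert.dedAll_append (deds2_0_ok) deds2_1_ok) deds2_2_ok) deds2_3_ok) deds2_4_ok) deds2_5_ok) deds2_6_ok) deds2_7_ok) deds2_8_ok) deds2_9_ok) deds2_10_ok) deds2_11_ok) deds2_12_ok) deds2_13_ok) deds2_14_ok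

end H91.Th
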