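import Cfsg.Agent.H91.Th.Cert
import Cfsg.Agent.H91.Th.DC.Append
import Cfsg.Agent.H91.Th.Data.States
import Cfsg.Agent.H91.Th.Data.Deds3

/-! Part 3 of the deductions. -/

set_option autoImplicit false
set_option maxRecDepth 100000
set_option Elab.async false

namespace H91.Th

theorem deds3_0_ok : cert.dedAll Data.known3 Data.deds3_0 = some Data.mid3_1 := by decide +kernel

theorem deds3_1_ok : cert.dedAll Data.mid3_1 Data.deds3_1 = some Data.mid3_2 := by decide +kernel

theorem deds3_2_ok : cert.dedAll Data.mid3_2 Data.deds3_2 = some Data.mid3_3 := by decide +kernel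

theorem deds3_3_ok : cert.dedAll Data.mid3_3 Data.deds3_3 = some Data.mid3_4 := by decide +kernel

theorem deds3_4_ok : cert.dedAll Data.mid3_4 Data.deds3_4 = some Data.mid3_5 := by decide +kernel

theorem deds3_5_ok : cert.dedAll Data.mid3_5 Data.deds3_5 = some Data.mid3_6 := by decide +kernel

theorem deds3_6_ok : cert.dedAll Data.mid3_6 Data.deds3_6 = some Data.mid3_7 := by decide +kernel

theorem deds3_7_ok : cert.dedAll Data.mid3_7 Data.deds3_7 = some Data.mid3_8 := by decide +kernel

theorem deds3_8_ok : cert.dedAll Data.mid3_8 Data.deds3_8 = some Data.mid3_9 := by decide +kernel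

theorem deds3_9_ok : cert.dedAll Data.mid3_9 Data.deds3_9 = some Data.mid3_10 := by decide +kernel

theorem deds3_10_ok : cert.dedAll Data.mid3_10 Data.deds3_10 = some Data.mid3_11 := by decide +kernel

theorem deds3_11_ok : cert.dedAll Data.mid3_11 Data.deds3_11 = some Data.mid3_12 := by decide +kernel

theorem deds3_12_ok : cert.dedAll Data.mid3_12 Data.deds3_12 = some Data.mid3_13 := by decide +kernel

theorem deds3_13_ok : cert.dedAll Data.mid3_13 Data.deds3_13 = some Data.mid3_14 := by decide +kernel

theorem deds3_14_ok : cert.dedAll Data.mid3_14 Data.deds3_14 = some Data.known4 := by decide +kernel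

theorem deds3_ok : cert.dedAll Data.known3 Data.deds3 = some Data.known4 :=
  DC.Cert.dedAll_append (DC.Cert.dedAll_append (DC.Cert.dedAll_append (DC.Cert.dedAll_append (DC.Cert.dedAll_append (DC.Cert.dedAll_append (DC.Cert.dedAll_append (DC.Cert.dedAll_append (DC.Cert.dedAll_append (DC.Cert.dedAll_append (DC.Cert.dedAll_append (DC.Cert.dedAll_append (DC.Cert.dedAll_append (DC.Cert.dedAll_append (deds3_0_ok) deds3_1_ok) deds3_2_ok) deds3_3_ok) deds3_4_ok) deds3_5_ok) deds3_6_ok) deds3_7_ok) deds3_8_ok) deds3_9_ok) deds3_10_ok) deds3_11_ok) deds3_12_ok) deds3_13_ok) deds3_14_ok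

end H91.Th
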