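import Cfsg.Agent.H91.Th.Cert
import Cfsg.Agent.H91.Th.DC.Append
import Cfsg.Agent.H91.Th.Data.States
import Cfsg.Agent.H91.Th.Data.Deds4

/-! Part 4 of the deductions. -/

set_option autoImplicit false
set_option maxRecDepth 100000
set_option Elab.async false

namespace H91.Th

theorem deds4_0_ok : cert.dedAll Data.known4 Data.deds4_0 = some Data.mid4_1 := by decide +kernel

theorem deds4_1_ok : cert.dedAll Data.mid4_1 Data.deds4_1 = some Data.mid4_2 := by decide +kernel

theorem deds4_2_ok : cert.dedAll Data.mid4_2 Data.deds4_2 = some Data.mid4_3 := by decide +kernel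

theorem deds4_3_ok : cert.dedAll Data.mid4_3 Data.deds4_3 = some Data.mid4_4 := by decide +kernel

theorem deds4_4_ok : cert.dedAll Data.mid4_4 Data.deds4_4 = some Data.mid4_5 := by decide +kernel

theorem deds4_5_ok : cert.dedAll Data.mid4_5 Data.deds4_5 = some Data.mid4_6 := by decide +kernel

theorem deds4_6_ok : cert.dedAll Data.mid4_6 Data.deds4_6 = some Data.mid4_7 := by decide +kernel

theorem deds4_7_ok : cert.dedAll Data.mid4_7 Data.deds4_7 = some Data.mid4_8 := by decide +kernel

theorem deds4_8_ok : cert.dedAll Data.mid4_8 Data.deds4_8 = some Data.mid4_9 := by decide +kernel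

theorem deds4_9_ok : cert.dedAll Data.mid4_9 Data.deds4_9 = some Data.mid4_10 := by decide +kernel

theorem deds4_10_ok : cert.dedAll Data.mid4_10 Data.deds4_10 = some Data.mid4_11 := by decide +kernel

theorem deds4_11_ok : cert.dedAll Data.mid4_11 Data.deds4_11 = some Data.mid4_12 := by decide +kernel

theorem deds4_12_ok : cert.dedAll Data.mid4_12 Data.deds4_12 = some Data.mid4_13 := by decide +kernel

theorem deds4_13_ok : cert.dedAll Data.mid4_13 Data.deds4_13 = some Data.mid4_14 := by decide +kernel

theorem deds4_14_ok : cert.dedAll Data.mid4_14 Data.deds4_14 = some Data.known5 := by decide +kernel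

theorem deds4_ok : cert.dedAll Data.known4 Data.deds4 = some Data.known5 :=
  DC.Cert.dedAll_append (DC.Cert.dedAll_append (DC.Cert.dedAll_append (DC.Cert.dedAll_append (DC.Cert.dedAll_append (DC.Cert.dedAll_append (DC.Cert.dedAll_append (DC.Cert.dedAll_append (DC.Cert.dedAll_append (DC.Cert.dedAll_append (DC.Cert.dedAll_append (DC.Cert.dedAll_append (DC.Cert.dedAll_append (DC.Cert.dedAll_append (deds4_0_ok) deds4_1_ok) deds4_2_ok) deds4_3_ok) deds4_4_ok) deds4_5_ok) deds4_6_ok) deds4_7_ok) deds4_8_ok) deds4_9_ok) deds4_10_ok) deds4_11_ok) deds4_12_ok) deds4_13_ok) deds4_14_ok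

end H91.Th
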