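import Cfsg.Agent.H91.Th.Cert
import Cfsg.Agent.H91.Th.DC.Append
import Cfsg.Agent.H91.Th.Data.States
import Cfsg.Agent.H91.Th.Data.Deds5

/-! Part 5 of the deductions. -/

set_option autoImplicit false
set_option maxRecDepth 100000
set_option Elab.async false

namespace H91.Th

theorem deds5_0_ok : cert.dedAll Data.known5 Data.deds5_0 = some Data.mid5_1 := by decide +kernel

theorem deds5_1_ok : cert.dedAll Data.mid5_1 Data.deds5_1 = some Data.mid5_2 := by decide +kernel

theorem deds5_2_ok : cert.dedAll Data.mid5_2 Data.deds5_2 = some Data.mid5_3 := by decide +kernel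

theorem deds5_3_ok : cert.dedAll Data.mid5_3 Data.deds5_3 = some Data.mid5_4 := by decide +kernel

theorem deds5_4_ok : cert.dedAll Data.mid5_4 Data.deds5_4 = some Data.mid5_5 := by decide +kernel

theorem deds5_5_ok : cert.dedAll Data.mid5_5 Data.deds5_5 = some Data.mid5_6 := by decide +kernel

theorem deds5_6_ok : cert.dedAll Data.mid5_6 Data.deds5_6 = some Data.mid5_7 := by decide +kernel

theorem deds5_7_ok : cert.dedAll Data.mid5_7 Data.deds5_7 = some Data.mid5_8 := by decide +kernel

theorem deds5_8_ok : cert.dedAll Data.mid5_8 Data.deds5_8 = some Data.mid5_9 := by decide +kernel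

theorem deds5_9_ok : cert.dedAll Data.mid5_9 Data.deds5_9 = some Data.mid5_10 := by decide +kernel

theorem deds5_10_ok : cert.dedAll Data.mid5_10 Data.deds5_10 = some Data.mid5_11 := by decide +kernel

theorem deds5_11_ok : cert.dedAll Data.mid5_11 Data.deds5_11 = some Data.mid5_12 := by decide +kernel

theorem deds5_12_ok : cert.dedAll Data.mid5_12 Data.deds5_12 = some Data.mid5_13 := by decide +kernel

theorem deds5_13_ok : cert.dedAll Data.mid5_13 Data.deds5_13 = some Data.mid5_14 := by decide +kernel

theorem deds5_14_ok : cert.dedAll Data.mid5_14 Data.deds5_14 = some Data.known6 := by decide +kernel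

theorem deds5_ok : cert.dedAll Data.known5 Data.deds5 = some Data.known6 :=
  DC.Cert.dedAll_append (DC.Cert.dedAll_append (DC.Cert.dedAll_append (DC.Cert.dedAll_append (DC.Cert.dedAll_append (DC.Cert.dedAll_append (DC.Cert.dedAll_append (DC.Cert.dedAll_append (DC.Cert.dedAll_append (DC.Cert.dedAll_append (DC.Cert.dedAll_append (DC.Cert.dedAll_append (DC.Cert.dedAll_append (DC.Cert.dedAll_append (deds5_0_ok) deds5_1_ok) deds5_2_ok) deds5_3_ok) deds5_4_ok) deds5_5_ok) deds5_6_ok) deds5_7_ok) deds5_8_ok) deds5_9_ok) deds5_10_ok) deds5_11_ok) deds5_12_ok) deds5_13_ok) deds5_14_ok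

end H91.Th
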