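import Cfsg.Agent.H91.Th.Cert
import Cfsg.Agent.H91.Th.DC.Append
import Cfsg.Agent.H91.Th.Data.States
import Cfsg.Agent.H91.Th.Data.Deds6

/-! Part 6 of the deductions. -/

set_option autoImplicit false
set_option maxRecDepth 100000
set_option Elab.async false

namespace H91.Th

theorem deds6_0_ok : cert.dedAll Data.known6 Data.deds6_0 = some Data.mid6_1 := by decide +kernel

theorem deds6_1_ok : cert.dedAll Data.mid6_1 Data.deds6_1 = some Data.mid6_2 := by decide +kernel

theorem deds6_2_ok : cert.dedAll Data.mid6_2 Data.deds6_2 = some Data.mid6_3 := by decide +kernel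

theorem deds6_3_ok : cert.dedAll Data.mid6_3 Data.deds6_3 = some Data.mid6_4 := by decide +kernel

theorem deds6_4_ok : cert.dedAll Data.mid6_4 Data.deds6_4 = some Data.mid6_5 := by decide +kernel

theorem deds6_5_ok : cert.dedAll Data.mid6_5 Data.deds6_5 = some Data.mid6_6 := by decide +kernel

theorem deds6_6_ok : cert.dedAll Data.mid6_6 Data.deds6_6 = some Data.mid6_7 := by decide +kernel

theorem deds6_7_ok : cert.dedAll Data.mid6_7 Data.deds6_7 = some Data.mid6_8 := by decide +kernel

theorem deds6_8_ok : cert.dedAll Data.mid6_8 Data.deds6_8 = some Data.mid6_9 := by decide +kernel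

theorem deds6_9_ok : cert.dedAll Data.mid6_9 Data.deds6_9 = some Data.mid6_10 := by decide +kernel

theorem deds6_10_ok : cert.dedAll Data.mid6_10 Data.deds6_10 = some Data.mid6_11 := by decide +kernel

theorem deds6_11_ok : cert.dedAll Data.mid6_11 Data.deds6_11 = some Data.mid6_12 := by decide +kernel

theorem deds6_12_ok : cert.dedAll Data.mid6_12 Data.deds6_12 = some Data.mid6_13 := by decide +kernel

theorem deds6_13_ok : cert.dedAll Data.mid6_13 Data.deds6_13 = some Data.mid6_14 := by decide +kernel

theorem deds6_14_ok : cert.dedAll Data.mid6_14 Data.deds6_14 = some Data.known7 := by decide +kernel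

theorem deds6_ok : cert.dedAll Data.known6 Data.deds6 = some Data.known7 :=
  DC.Cert.dedAll_append (DC.Cert.dedAll_append (DC.Cert.dedAll_append (DC.Cert.dedAll_append (DC.Cert.dedAll_append (DC.Cert.dedAll_append (DC.Cert.dedAll_append (DC.Cert.dedAll_append (DC.Cert.dedAll_append (DC.Cert.dedAll_append (DC.Cert.dedAll_append (DC.Cert.dedAll_append (DC.Cert.dedAll_append (DC.Cert.dedAll_append (deds6_0_ok) deds6_1_ok) deds6_2_ok) deds6_3_ok) deds6_4_ok) deds6_5_ok) deds6_6_ok) deds6_7_ok) deds6_8_ok) deds6_9_ok) deds6_10_ok) deds6_11_ok) deds6_12_ok) deds6_13_ok) deds6_14_ok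

end H91.Th
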