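import Cfsg.Agent.H91.Th.Cert
import Cfsg.Agent.H91.Th.DC.Append
import Cfsg.Agent.H91.Th.Data.States
import Cfsg.Agent.H91.Th.Data.Deds7

/-! Part 7 of the deductions. -/

set_option autoImplicit false
set_option maxRecDepth 100000
set_option Elab.async false

namespace H91.Th

theorem deds7_0_ok : cert.dedAll Data.known7 Data.deds7_0 = some Data.mid7_1 := by decide +kernel

theorem deds7_1_ok : cert.dedAll Data.mid7_1 Data.deds7_1 = some Data.mid7_2 := by decide +kernel

theorem deds7_2_ok : cert.dedAll Data.mid7_2 Data.deds7_2 = some Data.mid7_3 := by decide +kernel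

theorem deds7_3_ok : cert.dedAll Data.mid7_3 Data.deds7_3 = some Data.mid7_4 := by decide +kernel

theorem deds7_4_ok : cert.dedAll Data.mid7_4 Data.deds7_4 = some Data.mid7_5 := by decide +kernel

theorem deds7_5_ok : cert.dedAll Data.mid7_5 Data.deds7_5 = some Data.mid7_6 := by decide +kernel

theorem deds7_6_ok : cert.dedAll Data.mid7_6 Data.deds7_6 = some Data.mid7_7 := by decide +kernel

theorem deds7_7_ok : cert.dedAll Data.mid7_7 Data.deds7_7 = some Data.mid7_8 := by decide +kernel

theorem deds7_8_ok : cert.dedAll Data.mid7_8 Data.deds7_8 = some Data.mid7_9 := by decide +kernel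

theorem deds7_9_ok : cert.dedAll Data.mid7_9 Data.deds7_9 = some Data.mid7_10 := by decide +kernel

theorem deds7_10_ok : cert.dedAll Data.mid7_10 Data.deds7_10 = some Data.mid7_11 := by decide +kernel

theorem deds7_11_ok : cert.dedAll Data.mid7_11 Data.deds7_11 = some Data.mid7_12 := by decide +kernel

theorem deds7_12_ok : cert.dedAll Data.mid7_12 Data.deds7_12 = some Data.mid7_13 := by decide +kernel

theorem deds7_13_ok : cert.dedAll Data.mid7_13 Data.deds7_13 = some Data.mid7_14 := by decide +kernel

theorem deds7_14_ok : cert.dedAll Data.mid7_14 Data.deds7_14 = some Data.known8 := by decide +kernel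

theorem deds7_ok : cert.dedAll Data.known7 Data.deds7 = some Data.known8 :=
  DC.Cert.dedAll_append (DC.Cert.dedAll_append (DC.Cert.dedAll_append (DC.Cert.dedAll_append (DC.Cert.dedAll_append (DC.Cert.dedAll_append (DC.Cert.dedAll_append (DC.Cert.dedAll_append (DC.Cert.dedAll_append (DC.Cert.dedAll_append (DC.Cert.dedAll_append (DC.Cert.dedAll_append (DC.Cert.dedAll_append (DC.Cert.dedAll_append (deds7_0_ok) deds7_1_ok) deds7_2_ok) deds7_3_ok) deds7_4_ok) deds7_5_ok) deds7_6_ok) deds7_7_ok) deds7_8_ok) deds7_9_ok) deds7_10_ok) deds7_11_ok) deds7_12_ok) deds7_13_ok) deds7_14_ok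

end H91.Th
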