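import Cfsg.Agent.H91.Th.Cert
import Cfsg.Agent.H91.Th.DC.Append
import Cfsg.Agent.H91.Th.Data.States
import Cfsg.Agent.H91.Th.Data.Deds8

/-! Part 8 of the deductions. -/

set_option autoImplicit false
set_option maxRecDepth 100000
set_option Elab.async false

namespace H91.Th

theorem deds8_0_ok : cert.dedAll Data.known8 Data.deds8_0 = some Data.mid8_1 := by decide +kernel

theorem deds8_1_ok : cert.dedAll Data.mid8_1 Data.deds8_1 = some Data.mid8_2 := by decide +kernel

theorem deds8_2_ok : cert.dedAll Data.mid8_2 Data.deds8_2 = some Data.mid8_3 := by decide +kernel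

theorem deds8_3_ok : cert.dedAll Data.mid8_3 Data.deds8_3 = some Data.mid8_4 := by decide +kernel

theorem deds8_4_ok : cert.dedAll Data.mid8_4 Data.deds8_4 = some Data.mid8_5 := by decide +kernel

theorem deds8_5_ok : cert.dedAll Data.mid8_5 Data.deds8_5 = some Data.mid8_6 := by decide +kernel

theorem deds8_6_ok : cert.dedAll Data.mid8_6 Data.deds8_6 = some Data.mid8_7 := by decide +kernel

theorem deds8_7_ok : cert.dedAll Data.mid8_7 Data.deds8_7 = some Data.mid8_8 := by decide +kernel

theorem deds8_8_ok : cert.dedAll Data.mid8_8 Data.deds8_8 = some Data.mid8_9 := by decide +kernel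

theorem deds8_9_ok : cert.dedAll Data.mid8_9 Data.deds8_9 = some Data.mid8_10 := by decide +kernel

theorem deds8_10_ok : cert.dedAll Data.mid8_10 Data.deds8_10 = some Data.mid8_11 := by decide +kernel

theorem deds8_11_ok : cert.dedAll Data.mid8_11 Data.deds8_11 = some Data.mid8_12 := by decide +kernel

theorem deds8_12_ok : cert.dedAll Data.mid8_12 Data.deds8_12 = some Data.mid8_13 := by decide +kernel

theorem deds8_13_ok : cert.dedAll Data.mid8_13 Data.deds8_13 = some Data.mid8_14 := by decide +kernel

theorem deds8_14_ok : cert.dedAll Data.mid8_14 Data.deds8_14 = some Data.known9 := by decide +kernel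

theorem deds8_ok : cert.dedAll Data.known8 Data.deds8 = some Data.known9 :=
  DC.Cert.dedAll_append (DC.Cert.dedAll_append (DC.Cert.dedAll_append (DC.Cert.dedAll_append (DC.Cert.dedAll_append (DC.Cert.dedAll_append (DC.Cert.dedAll_append (DC.Cert.dedAll_append (DC.Cert.dedAll_append (DC.Cert.dedAll_append (DC.Cert.dedAll_append (DC.Cert.dedAll_append (DC.Cert.dedAll_append (DC.Cert.dedAll_append (deds8_0_ok) deds8_1_ok) deds8_2_ok) deds8_3_ok) deds8_4_ok) deds8_5_ok) deds8_6_ok) deds8_7_ok) deds8_8_ok) deds8_9_ok) deds8_10_ok) deds8_11_ok) deds8_12_ok) deds8_13_ok) deds8_14_ok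

end H91.Th
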