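import Cfsg.Agent.H91.Th.Cert
import Cfsg.Agent.H91.Th.DC.Append
import Cfsg.Agent.H91.Th.Data.States
import Cfsg.Agent.H91.Th.Data.Deds9

/-! Part 9 of the deductions. -/

set_option autoImplicit false
set_option maxRecDepth 100000
set_option Elab.async false

namespace H91.Th

theorem deds9_0_ok : cert.dedAll Data.known9 Data.deds9_0 = some Data.mid9_1 := by decide +kernel

theorem deds9_1_ok : cert.dedAll Data.mid9_1 Data.deds9_1 = some Data.mid9_2 := by decide +kernel

theorem deds9_2_ok : cert.dedAll Data.mid9_2 Data.deds9_2 = some Data.mid9_3 := by decide +kernel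

theorem deds9_3_ok : cert.dedAll Data.mid9_3 Data.deds9_3 = some Data.mid9_4 := by decide +kernel

theorem deds9_4_ok : cert.dedAll Data.mid9_4 Data.deds9_4 = some Data.mid9_5 := by decide +kernel

theorem deds9_5_ok : cert.dedAll Data.mid9_5 Data.deds9_5 = some Data.mid9_6 := by decide +kernel

theorem deds9_6_ok : cert.dedAll Data.mid9_6 Data.deds9_6 = some Data.mid9_7 := by decide +kernel

theorem deds9_7_ok : cert.dedAll Data.mid9_7 Data.deds9_7 = some Data.mid9_8 := by decide +kernel

theorem deds9_8_ok : cert.dedAll Data.mid9_8 Data.deds9_8 = some Data.mid9_9 := by decide +kernel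

theorem deds9_9_ok : cert.dedAll Data.mid9_9 Data.deds9_9 = some Data.mid9_10 := by decide +kernel

theorem deds9_10_ok : cert.dedAll Data.mid9_10 Data.deds9_10 = some Data.mid9_11 := by decide +kernel

theorem deds9_11_ok : cert.dedAll Data.mid9_11 Data.deds9_11 = some Data.mid9_12 := by decide +kernel

theorem deds9_12_ok : cert.dedAll Data.mid9_12 Data.deds9_12 = some Data.mid9_13 := by decide +kernel

theorem deds9_13_ok : cert.dedAll Data.mid9_13 Data.deds9_13 = some Data.mid9_14 := by decide +kernel

theorem deds9_14_ok : cert.dedAll Data.mid9_14 Data.deds9_14 = some Data.known10 := by decide +kernel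

theorem deds9_ok : cert.dedAll Data.known9 Data.deds9 = some Data.known10 :=
  DC.Cert.dedAll_append (DC.Cert.dedAll_append (DC.Cert.dedAll_append (DC.Cert.dedAll_append (DC.Cert.dedAll_append (DC.Cert.dedAll_append (DC.Cert.dedAll_append (DC.Cert.dedAll_append (DC.Cert.dedAll_append (DC.Cert.dedAll_append (DC.Cert.dedAll_append (DC.Cert.dedAll_append (DC.Cert.dedAll_append (DC.Cert.dedAll_append (deds9_0_ok) deds9_1_ok) deds9_2_ok) deds9_3_ok) deds9_4_ok) deds9_5_ok) deds9_6_ok) deds9_7_ok) deds9_8_ok) deds9_9_ok) deds9_10_ok) deds9_11_ok) deds9_12_ok) deds9_13_ok) deds9_14_ok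

end H91.Th
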