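import Cfsg.Agent.H77.HN.Checks
import Cfsg.Agent.H91.Th.Cert
import Cfsg.Agent.H91.Th.Data.States

/-! The roots of the edges and the frame of the deductions. -/

set_option autoImplicit false
set_option maxRecDepth 100000
set_option Elab.async false

namespace H91.Th

open H77.HN (allBelow allBelow_glue)

/-- the tree edges, last first -/
def treeList : List ℕ := [9, 8, 7, 6, 5, 4, 3, 2, 1, 0]

theorem tree_shape : cert.treeShape treeList = true := by decide +kernel

theorem start_ok : Data.known0 = DC.Cert.init (List.range 9) treeList := by decide +kernel

theorem done_ok : cert.done Data.known12 = true := by decide +kernel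

theorem roots0 : allBelow cert.rootOne 0 527 = true := by decide +kernel

theorem roots1 : allBelow cert.rootOne 527 527 = true := by decide +kernel

theorem roots2 : allBelow cert.rootOne 1054 527 = true := by decide +kernel

theorem roots3 : allBelow cert.rootOne 1581 527 = true := by decide +kernel

theorem roots4 : allBelow cert.rootOne 2108 527 = true := by decide +kernel

theorem roots5 : allBelow cert.rootOne 2635 527 = true := by decide +kernel

theorem roots6 : allBelow cert.rootOne 3162 527 = true := by decide +kernel

theorem roots7 : allBelow cert.rootOne 3689 527 = true := by decide +kernel

theorem roots_all : allBelow cert.rootOne 0 Data.numEdges = true :=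
  allBelow_glue (allBelow_glue (allBelow_glue (allBelow_glue (allBelow_glue (allBelow_glue (allBelow_glue (roots0) roots1) roots2) roots3) roots4) roots5) roots6) roots7

end H91.Th
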