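import Cfsg.Agent.H77.HN.Chain
import Cfsg.Agent.H91.Th.Cert
import Cfsg.Agent.H91.Th.Data.Levels

/-! Chains of the stabilisers of the orbits. -/

set_option autoImplicit false
set_option maxRecDepth 100000
set_option Elab.async false

namespace H91.Th

open H77.HN (chainCheck chainOrd)

theorem levels1_ok : chainCheck cert.T (cert.sg 1) [] Data.levels1 = true ∧
    chainOrd Data.levels1 = 36864 ∧ Data.levels1.all (fun p => Nat.blt p.1 17199) = true := by
  decide +kernel

theorem levels2_ok : chainCheck cert.T (cert.sg 2) [] Data.levels2 = true ∧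
    chainOrd Data.levels2 = 13824 ∧ Data.levels2.all (fun p => Nat.blt p.1 17199) = true := by
  decide +kernel

theorem levels3_ok : chainCheck cert.T (cert.sg 3) [] Data.levels3 = true ∧
    chainOrd Data.levels3 = 486 ∧ Data.levels3.all (fun p => Nat.blt p.1 17199) = true := by
  decide +kernel

theorem levels4_ok : chainCheck cert.T (cert.sg 4) [] Data.levels4 = true ∧
    chainOrd Data.levels4 = 288 ∧ Data.levels4.all (fun p => Nat.blt p.1 17199) = true := by
  decide +kernel

theorem levels5_ok : chainCheck cert.T (cert.sg 5) [] Data.levels5 = true ∧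
    chainOrd Data.levels5 = 54 ∧ Data.levels5.all (fun p => Nat.blt p.1 17199) = true := by
  decide +kernel

theorem levels6_ok : chainCheck cert.T (cert.sg 6) [] Data.levels6 = true ∧
    chainOrd Data.levels6 = 6 ∧ Data.levels6.all (fun p => Nat.blt p.1 17199) = true := by
  decide +kernel

theorem levels7_ok : chainCheck cert.T (cert.sg 7) [] Data.levels7 = true ∧
    chainOrd Data.levels7 = 78 ∧ Data.levels7.all (fun p => Nat.blt p.1 17199) = true := by
  decide +kernel

theorem levels8_ok : chainCheck cert.T (cert.sg 8) [] Data.levels8 = true ∧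
    chainOrd Data.levels8 = 126 ∧ Data.levels8.all (fun p => Nat.blt p.1 17199) = true := by
  decide +kernel

theorem levels9_ok : chainCheck cert.T (cert.sg 9) [] Data.levels9 = true ∧
    chainOrd Data.levels9 = 72 ∧ Data.levels9.all (fun p => Nat.blt p.1 17199) = true := by
  decide +kernel

theorem levels10_ok : chainCheck cert.T (cert.sg 10) [] Data.levels10 = true ∧
    chainOrd Data.levels10 = 3528 ∧ Data.levels10.all (fun p => Nat.blt p.1 17199) = true := by
  decide +kernel

end H91.Th
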