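import Cfsg.Agent.H77.HN.Chain
import Cfsg.Agent.H91.Th.Cert
import Cfsg.Agent.H91.Th.Data.Levels
import Cfsg.Agent.H77.HN.Checks

/-! The stabiliser of the point 0 and transitivity. -/

set_option autoImplicit false
set_option maxRecDepth 100000
set_option Elab.async false

namespace H91.Th

open H77.HN (chainCheck chainOrd)

theorem orb_zero : H77.HN.allBelow (fun c => Nat.beq (cert.orb 0 c) 0) 0 17199 = true := by
  decide +kernel

theorem root_zero : cert.root 0 = 0 := by decide +kernel

theorem levelsH_ok : chainCheck cert.T cert.hl [] Data.levelsH = true ∧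
    chainOrd Data.levelsH = 36864 ∧ Data.levelsH.all (fun p => Nat.blt p.1 17199) = true ∧
    cert.hl.all (fun l => Nat.beq (cert.T l 0) 0) = true ∧
    0 :: Data.levelsH.map Prod.fst = Data.base := by decide +kernel

end H91.Th
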