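import Cfsg.Agent.H77.HN.Checks
import Cfsg.Agent.H91.Th.Cert

/-! The tree of orbit 0. -/

set_option autoImplicit false
set_option maxRecDepth 100000
set_option Elab.async false

namespace H91.Th

open H77.HN (allBelow allBelow_glue)

theorem tree0_0 : allBelow (cert.treeEntry 0) 0 637 = true := by decide +kernel

theorem tree0_1 : allBelow (cert.treeEntry 0) 637 637 = true := by decide +kernel

theorem tree0_2 : allBelow (cert.treeEntry 0) 1274 637 = true := by decide +kernel

theorem tree0_3 : allBelow (cert.treeEntry 0) 1911 637 = true := by decide +kernel

theorem tree0_4 : allBelow (cert.treeEntry 0) 2548 637 = true := by decide +kernel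

theorem tree0_5 : allBelow (cert.treeEntry 0) 3185 637 = true := by decide +kernel

theorem tree0_6 : allBelow (cert.treeEntry 0) 3822 637 = true := by decide +kernel

theorem tree0_7 : allBelow (cert.treeEntry 0) 4459 637 = true := by decide +kernel

theorem tree0_8 : allBelow (cert.treeEntry 0) 5096 637 = true := by decide +kernel

theorem tree0_9 : allBelow (cert.treeEntry 0) 5733 637 = true := by decide +kernel

theorem tree0_10 : allBelow (cert.treeEntry 0) 6370 637 = true := by decide +kernel

theorem tree0_11 : allBelow (cert.treeEntry 0) 7007 637 = true := by decide +kernel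

theorem tree0_12 : allBelow (cert.treeEntry 0) 7644 637 = true := by decide +kernel

theorem tree0_13 : allBelow (cert.treeEntry 0) 8281 637 = true := by decide +kernel

theorem tree0_14 : allBelow (cert.treeEntry 0) 8918 637 = true := by decide +kernel

theorem tree0_15 : allBelow (cert.treeEntry 0) 9555 637 = true := by decide +kernel

theorem tree0_16 : allBelow (cert.treeEntry 0) 10192 637 = true := by decide +kernel

theorem tree0_17 : allBelow (cert.treeEntry 0) 10829 637 = true := by decide +kernel

theorem tree0_18 : allBelow (cert.treeEntry 0) 11466 637 = true := by decide +kernel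

theorem tree0_19 : allBelow (cert.treeEntry 0) 12103 637 = true := by decide +kernel

theorem tree0_20 : allBelow (cert.treeEntry 0) 12740 637 = true := by decide +kernel

theorem tree0_21 : allBelow (cert.treeEntry 0) 13377 637 = true := by decide +kernel

theorem tree0_22 : allBelow (cert.treeEntry 0) 14014 637 = true := by decide +kernel

theorem tree0_23 : allBelow (cert.treeEntry 0) 14651 637 = true := by decide +kernel

theorem tree0_24 : allBelow (cert.treeEntry 0) 15288 637 = true := by decide +kernel

theorem tree0_25 : allBelow (cert.treeEntry 0) 15925 637 = true := by decide +kernel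

theorem tree0_26 : allBelow (cert.treeEntry 0) 16562 637 = true := by decide +kernel

theorem tree0_ok : allBelow (cert.treeEntry 0) 0 17199 = true :=
  allBelow_glue (allBelow_glue (allBelow_glue (allBelow_glue (allBelow_glue (allBelow_glue (allBelow_glue (allBelow_glue (allBelow_glue (allBelow_glue (allBelow_glue (allBelow_glue (allBelow_glue (allBelow_glue (allBelow_glue (allBelow_glue (allBelow_glue (allBelow_glue (allBelow_glue (allBelow_glue (allBelow_glue (allBelow_glue (allBelow_glue (allBelow_glue (allBelow_glue (allBelow_glue (tree0_0) tree0_1) tree0_2) tree0_3) tree0_4) tree0_5) tree0_6) tree0_7) tree0_8) tree0_9) tree0_10) tree0_11) tree0_12) tree0_13) tree0_14) tree0_15) tree0_16) tree0_17) tree0_18) tree0_19) tree0_20) tree0_21) tree0_22) tree0_23) tree0_24) tree0_25) tree0_26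

end H91.Th
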