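import Cfsg.Agent.H77.HN.Checks
import Cfsg.Agent.H91.Th.Cert

/-! The tree of orbit 10. -/

set_option autoImplicit false
set_option maxRecDepth 100000
set_option Elab.async false

namespace H91.Th

open H77.HN (allBelow allBelow_glue)

theorem tree10_0 : allBelow (cert.treeEntry 10) 0 637 = true := by decide +kernel

theorem tree10_1 : allBelow (cert.treeEntry 10) 637 637 = true := by decide +kernel

theorem tree10_2 : allBelow (cert.treeEntry 10) 1274 637 = true := by decide +kernel

theorem tree10_3 : allBelow (cert.treeEntry 10) 1911 637 = true := by decide +kernel

theorem tree10_4 : allBelow (cert.treeEntry 10) 2548 637 = true := by decide +kernel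

theorem tree10_5 : allBelow (cert.treeEntry 10) 3185 637 = true := by decide +kernel

theorem tree10_6 : allBelow (cert.treeEntry 10) 3822 637 = true := by decide +kernel

theorem tree10_7 : allBelow (cert.treeEntry 10) 4459 637 = true := by decide +kernel

theorem tree10_8 : allBelow (cert.treeEntry 10) 5096 637 = true := by decide +kernel

theorem tree10_9 : allBelow (cert.treeEntry 10) 5733 637 = true := by decide +kernel

theorem tree10_10 : allBelow (cert.treeEntry 10) 6370 637 = true := by decide +kernel

theorem tree10_11 : allBelow (cert.treeEntry 10) 7007 637 = true := by decide +kernel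

theorem tree10_12 : allBelow (cert.treeEntry 10) 7644 637 = true := by decide +kernel

theorem tree10_13 : allBelow (cert.treeEntry 10) 8281 637 = true := by decide +kernel

theorem tree10_14 : allBelow (cert.treeEntry 10) 8918 637 = true := by decide +kernel

theorem tree10_15 : allBelow (cert.treeEntry 10) 9555 637 = true := by decide +kernel

theorem tree10_16 : allBelow (cert.treeEntry 10) 10192 637 = true := by decide +kernel

theorem tree10_17 : allBelow (cert.treeEntry 10) 10829 637 = true := by decide +kernel

theorem tree10_18 : allBelow (cert.treeEntry 10) 11466 637 = true := by decide +kernel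

theorem tree10_19 : allBelow (cert.treeEntry 10) 12103 637 = true := by decide +kernel

theorem tree10_20 : allBelow (cert.treeEntry 10) 12740 637 = true := by decide +kernel

theorem tree10_21 : allBelow (cert.treeEntry 10) 13377 637 = true := by decide +kernel

theorem tree10_22 : allBelow (cert.treeEntry 10) 14014 637 = true := by decide +kernel

theorem tree10_23 : allBelow (cert.treeEntry 10) 14651 637 = true := by decide +kernel

theorem tree10_24 : allBelow (cert.treeEntry 10) 15288 637 = true := by decide +kernel

theorem tree10_25 : allBelow (cert.treeEntry 10) 15925 637 = true := by decide +kernel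

theorem tree10_26 : allBelow (cert.treeEntry 10) 16562 637 = true := by decide +kernel

theorem tree10_ok : allBelow (cert.treeEntry 10) 0 17199 = true :=
  allBelow_glue (allBelow_glue (allBelow_glue (allBelow_glue (allBelow_glue (allBelow_glue (allBelow_glue (allBelow_glue (allBelow_glue (allBelow_glue (allBelow_glue (allBelow_glue (allBelow_glue (allBelow_glue (allBelow_glue (allBelow_glue (allBelow_glue (allBelow_glue (allBelow_glue (allBelow_glue (allBelow_glue (allBelow_glue (allBelow_glue (allBelow_glue (allBelow_glue (allBelow_glue (tree10_0) tree10_1) tree10_2) tree10_3) tree10_4) tree10_5) tree10_6) tree10_7) tree10_8) tree10_9) tree10_10) tree10_11) tree10_12) tree10_13) tree10_14) tree10_15) tree10_16) tree10_17) tree10_18) tree10_19) tree10_20) tree10_21) tree10_22) tree10_23) tree10_24) tree10_25) tree10_26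

end H91.Th
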