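import Cfsg.Agent.H77.HN.Checks
import Cfsg.Agent.H91.Th.Cert

/-! The tree of orbit 2. -/

set_option autoImplicit false
set_option maxRecDepth 100000
set_option Elab.async false

namespace H91.Th

open H77.HN (allBelow allBelow_glue)

theorem tree2_0 : allBelow (cert.treeEntry 2) 0 637 = true := by decide +kernel

theorem tree2_1 : allBelow (cert.treeEntry 2) 637 637 = true := by decide +kernel

theorem tree2_2 : allBelow (cert.treeEntry 2) 1274 637 = true := by decide +kernel

theorem tree2_3 : allBelow (cert.treeEntry 2) 1911 637 = true := by decide +kernel

theorem tree2_4 : allBelow (cert.treeEntry 2) 2548 637 = true := by decide +kernel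

theorem tree2_5 : allBelow (cert.treeEntry 2) 3185 637 = true := by decide +kernel

theorem tree2_6 : allBelow (cert.treeEntry 2) 3822 637 = true := by decide +kernel

theorem tree2_7 : allBelow (cert.treeEntry 2) 4459 637 = true := by decide +kernel

theorem tree2_8 : allBelow (cert.treeEntry 2) 5096 637 = true := by decide +kernel

theorem tree2_9 : allBelow (cert.treeEntry 2) 5733 637 = true := by decide +kernel

theorem tree2_10 : allBelow (cert.treeEntry 2) 6370 637 = true := by decide +kernel

theorem tree2_11 : allBelow (cert.treeEntry 2) 7007 637 = true := by decide +kernel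

theorem tree2_12 : allBelow (cert.treeEntry 2) 7644 637 = true := by decide +kernel

theorem tree2_13 : allBelow (cert.treeEntry 2) 8281 637 = true := by decide +kernel

theorem tree2_14 : allBelow (cert.treeEntry 2) 8918 637 = true := by decide +kernel

theorem tree2_15 : allBelow (cert.treeEntry 2) 9555 637 = true := by decide +kernel

theorem tree2_16 : allBelow (cert.treeEntry 2) 10192 637 = true := by decide +kernel

theorem tree2_17 : allBelow (cert.treeEntry 2) 10829 637 = true := by decide +kernel

theorem tree2_18 : allBelow (cert.treeEntry 2) 11466 637 = true := by decide +kernel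

theorem tree2_19 : allBelow (cert.treeEntry 2) 12103 637 = true := by decide +kernel

theorem tree2_20 : allBelow (cert.treeEntry 2) 12740 637 = true := by decide +kernel

theorem tree2_21 : allBelow (cert.treeEntry 2) 13377 637 = true := by decide +kernel

theorem tree2_22 : allBelow (cert.treeEntry 2) 14014 637 = true := by decide +kernel

theorem tree2_23 : allBelow (cert.treeEntry 2) 14651 637 = true := by decide +kernel

theorem tree2_24 : allBelow (cert.treeEntry 2) 15288 637 = true := by decide +kernel

theorem tree2_25 : allBelow (cert.treeEntry 2) 15925 637 = true := by decide +kernel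

theorem tree2_26 : allBelow (cert.treeEntry 2) 16562 637 = true := by decide +kernel

theorem tree2_ok : allBelow (cert.treeEntry 2) 0 17199 = true :=
  allBelow_glue (allBelow_glue (allBelow_glue (allBelow_glue (allBelow_glue (allBelow_glue (allBelow_glue (allBelow_glue (allBelow_glue (allBelow_glue (allBelow_glue (allBelow_glue (allBelow_glue (allBelow_glue (allBelow_glue (allBelow_glue (allBelow_glue (allBelow_glue (allBelow_glue (allBelow_glue (allBelow_glue (allBelow_glue (allBelow_glue (allBelow_glue (allBelow_glue (allBelow_glue (tree2_0) tree2_1) tree2_2) tree2_3) tree2_4) tree2_5) tree2_6) tree2_7) tree2_8) tree2_9) tree2_10) tree2_11) tree2_12) tree2_13) tree2_14) tree2_15) tree2_16) tree2_17) tree2_18) tree2_19) tree2_20) tree2_21) tree2_22) tree2_23) tree2_24) tree2_25) tree2_26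

end H91.Th
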