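import Cfsg.Agent.H77.HN.Checks
import Cfsg.Agent.H91.Th.Cert

/-! The tree of orbit 3. -/

set_option autoImplicit false
set_option maxRecDepth 100000
set_option Elab.async false

namespace H91.Th

open H77.HN (allBelow allBelow_glue)

theorem tree3_0 : allBelow (cert.treeEntry 3) 0 637 = true := by decide +kernel

theorem tree3_1 : allBelow (cert.treeEntry 3) 637 637 = true := by decide +kernel

theorem tree3_2 : allBelow (cert.treeEntry 3) 1274 637 = true := by decide +kernel

theorem tree3_3 : allBelow (cert.treeEntry 3) 1911 637 = true := by decide +kernel

theorem tree3_4 : allBelow (cert.treeEntry 3) 2548 637 = true := by decide +kernel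

theorem tree3_5 : allBelow (cert.treeEntry 3) 3185 637 = true := by decide +kernel

theorem tree3_6 : allBelow (cert.treeEntry 3) 3822 637 = true := by decide +kernel

theorem tree3_7 : allBelow (cert.treeEntry 3) 4459 637 = true := by decide +kernel

theorem tree3_8 : allBelow (cert.treeEntry 3) 5096 637 = true := by decide +kernel

theorem tree3_9 : allBelow (cert.treeEntry 3) 5733 637 = true := by decide +kernel

theorem tree3_10 : allBelow (cert.treeEntry 3) 6370 637 = true := by decide +kernel

theorem tree3_11 : allBelow (cert.treeEntry 3) 7007 637 = true := by decide +kernel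

theorem tree3_12 : allBelow (cert.treeEntry 3) 7644 637 = true := by decide +kernel

theorem tree3_13 : allBelow (cert.treeEntry 3) 8281 637 = true := by decide +kernel

theorem tree3_14 : allBelow (cert.treeEntry 3) 8918 637 = true := by decide +kernel

theorem tree3_15 : allBelow (cert.treeEntry 3) 9555 637 = true := by decide +kernel

theorem tree3_16 : allBelow (cert.treeEntry 3) 10192 637 = true := by decide +kernel

theorem tree3_17 : allBelow (cert.treeEntry 3) 10829 637 = true := by decide +kernel

theorem tree3_18 : allBelow (cert.treeEntry 3) 11466 637 = true := by decide +kernel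

theorem tree3_19 : allBelow (cert.treeEntry 3) 12103 637 = true := by decide +kernel

theorem tree3_20 : allBelow (cert.treeEntry 3) 12740 637 = true := by decide +kernel

theorem tree3_21 : allBelow (cert.treeEntry 3) 13377 637 = true := by decide +kernel

theorem tree3_22 : allBelow (cert.treeEntry 3) 14014 637 = true := by decide +kernel

theorem tree3_23 : allBelow (cert.treeEntry 3) 14651 637 = true := by decide +kernel

theorem tree3_24 : allBelow (cert.treeEntry 3) 15288 637 = true := by decide +kernel

theorem tree3_25 : allBelow (cert.treeEntry 3) 15925 637 = true := by decide +kernel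

theorem tree3_26 : allBelow (cert.treeEntry 3) 16562 637 = true := by decide +kernel

theorem tree3_ok : allBelow (cert.treeEntry 3) 0 17199 = true :=
  allBelow_glue (allBelow_glue (allBelow_glue (allBelow_glue (allBelow_glue (allBelow_glue (allBelow_glue (allBelow_glue (allBelow_glue (allBelow_glue (allBelow_glue (allBelow_glue (allBelow_glue (allBelow_glue (allBelow_glue (allBelow_glue (allBelow_glue (allBelow_glue (allBelow_glue (allBelow_glue (allBelow_glue (allBelow_glue (allBelow_glue (allBelow_glue (allBelow_glue (allBelow_glue (tree3_0) tree3_1) tree3_2) tree3_3) tree3_4) tree3_5) tree3_6) tree3_7) tree3_8) tree3_9) tree3_10) tree3_11) tree3_12) tree3_13) tree3_14) tree3_15) tree3_16) tree3_17) tree3_18) tree3_19) tree3_20) tree3_21) tree3_22) tree3_23) tree3_24) tree3_25) tree3_26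

end H91.Th
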