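import Cfsg.Agent.H77.HN.Checks
import Cfsg.Agent.H91.Th.Cert

/-! The tree of orbit 4. -/

set_option autoImplicit false
set_option maxRecDepth 100000
set_option Elab.async false

namespace H91.Th

open H77.HN (allBelow allBelow_glue)

theorem tree4_0 : allBelow (cert.treeEntry 4) 0 637 = true := by decide +kernel

theorem tree4_1 : allBelow (cert.treeEntry 4) 637 637 = true := by decide +kernel

theorem tree4_2 : allBelow (cert.treeEntry 4) 1274 637 = true := by decide +kernel

theorem tree4_3 : allBelow (cert.treeEntry 4) 1911 637 = true := by decide +kernel

theorem tree4_4 : allBelow (cert.treeEntry 4) 2548 637 = true := by decide +kernel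

theorem tree4_5 : allBelow (cert.treeEntry 4) 3185 637 = true := by decide +kernel

theorem tree4_6 : allBelow (cert.treeEntry 4) 3822 637 = true := by decide +kernel

theorem tree4_7 : allBelow (cert.treeEntry 4) 4459 637 = true := by decide +kernel

theorem tree4_8 : allBelow (cert.treeEntry 4) 5096 637 = true := by decide +kernel

theorem tree4_9 : allBelow (cert.treeEntry 4) 5733 637 = true := by decide +kernel

theorem tree4_10 : allBelow (cert.treeEntry 4) 6370 637 = true := by decide +kernel

theorem tree4_11 : allBelow (cert.treeEntry 4) 7007 637 = true := by decide +kernel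

theorem tree4_12 : allBelow (cert.treeEntry 4) 7644 637 = true := by decide +kernel

theorem tree4_13 : allBelow (cert.treeEntry 4) 8281 637 = true := by decide +kernel

theorem tree4_14 : allBelow (cert.treeEntry 4) 8918 637 = true := by decide +kernel

theorem tree4_15 : allBelow (cert.treeEntry 4) 9555 637 = true := by decide +kernel

theorem tree4_16 : allBelow (cert.treeEntry 4) 10192 637 = true := by decide +kernel

theorem tree4_17 : allBelow (cert.treeEntry 4) 10829 637 = true := by decide +kernel

theorem tree4_18 : allBelow (cert.treeEntry 4) 11466 637 = true := by decide +kernel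

theorem tree4_19 : allBelow (cert.treeEntry 4) 12103 637 = true := by decide +kernel

theorem tree4_20 : allBelow (cert.treeEntry 4) 12740 637 = true := by decide +kernel

theorem tree4_21 : allBelow (cert.treeEntry 4) 13377 637 = true := by decide +kernel

theorem tree4_22 : allBelow (cert.treeEntry 4) 14014 637 = true := by decide +kernel

theorem tree4_23 : allBelow (cert.treeEntry 4) 14651 637 = true := by decide +kernel

theorem tree4_24 : allBelow (cert.treeEntry 4) 15288 637 = true := by decide +kernel

theorem tree4_25 : allBelow (cert.treeEntry 4) 15925 637 = true := by decide +kernel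

theorem tree4_26 : allBelow (cert.treeEntry 4) 16562 637 = true := by decide +kernel

theorem tree4_ok : allBelow (cert.treeEntry 4) 0 17199 = true :=
  allBelow_glue (allBelow_glue (allBelow_glue (allBelow_glue (allBelow_glue (allBelow_glue (allBelow_glue (allBelow_glue (allBelow_glue (allBelow_glue (allBelow_glue (allBelow_glue (allBelow_glue (allBelow_glue (allBelow_glue (allBelow_glue (allBelow_glue (allBelow_glue (allBelow_glue (allBelow_glue (allBelow_glue (allBelow_glue (allBelow_glue (allBelow_glue (allBelow_glue (allBelow_glue (tree4_0) tree4_1) tree4_2) tree4_3) tree4_4) tree4_5) tree4_6) tree4_7) tree4_8) tree4_9) tree4_10) tree4_11) tree4_12) tree4_13) tree4_14) tree4_15) tree4_16) tree4_17) tree4_18) tree4_19) tree4_20) tree4_21) tree4_22) tree4_23) tree4_24) tree4_25) tree4_26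

end H91.Th
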