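import Cfsg.Agent.H77.HN.Checks
import Cfsg.Agent.H91.Th.Cert

/-! The tree of orbit 5. -/

set_option autoImplicit false
set_option maxRecDepth 100000
set_option Elab.async false

namespace H91.Th

open H77.HN (allBelow allBelow_glue)

theorem tree5_0 : allBelow (cert.treeEntry 5) 0 637 = true := by decide +kernel

theorem tree5_1 : allBelow (cert.treeEntry 5) 637 637 = true := by decide +kernel

theorem tree5_2 : allBelow (cert.treeEntry 5) 1274 637 = true := by decide +kernel

theorem tree5_3 : allBelow (cert.treeEntry 5) 1911 637 = true := by decide +kernel

theorem tree5_4 : allBelow (cert.treeEntry 5) 2548 637 = true := by decide +kernel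

theorem tree5_5 : allBelow (cert.treeEntry 5) 3185 637 = true := by decide +kernel

theorem tree5_6 : allBelow (cert.treeEntry 5) 3822 637 = true := by decide +kernel

theorem tree5_7 : allBelow (cert.treeEntry 5) 4459 637 = true := by decide +kernel

theorem tree5_8 : allBelow (cert.treeEntry 5) 5096 637 = true := by decide +kernel

theorem tree5_9 : allBelow (cert.treeEntry 5) 5733 637 = true := by decide +kernel

theorem tree5_10 : allBelow (cert.treeEntry 5) 6370 637 = true := by decide +kernel

theorem tree5_11 : allBelow (cert.treeEntry 5) 7007 637 = true := by decide +kernel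

theorem tree5_12 : allBelow (cert.treeEntry 5) 7644 637 = true := by decide +kernel

theorem tree5_13 : allBelow (cert.treeEntry 5) 8281 637 = true := by decide +kernel

theorem tree5_14 : allBelow (cert.treeEntry 5) 8918 637 = true := by decide +kernel

theorem tree5_15 : allBelow (cert.treeEntry 5) 9555 637 = true := by decide +kernel

theorem tree5_16 : allBelow (cert.treeEntry 5) 10192 637 = true := by decide +kernel

theorem tree5_17 : allBelow (cert.treeEntry 5) 10829 637 = true := by decide +kernel

theorem tree5_18 : allBelow (cert.treeEntry 5) 11466 637 = true := by decide +kernel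

theorem tree5_19 : allBelow (cert.treeEntry 5) 12103 637 = true := by decide +kernel

theorem tree5_20 : allBelow (cert.treeEntry 5) 12740 637 = true := by decide +kernel

theorem tree5_21 : allBelow (cert.treeEntry 5) 13377 637 = true := by decide +kernel

theorem tree5_22 : allBelow (cert.treeEntry 5) 14014 637 = true := by decide +kernel

theorem tree5_23 : allBelow (cert.treeEntry 5) 14651 637 = true := by decide +kernel

theorem tree5_24 : allBelow (cert.treeEntry 5) 15288 637 = true := by decide +kernel

theorem tree5_25 : allBelow (cert.treeEntry 5) 15925 637 = true := by decide +kernel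

theorem tree5_26 : allBelow (cert.treeEntry 5) 16562 637 = true := by decide +kernel

theorem tree5_ok : allBelow (cert.treeEntry 5) 0 17199 = true :=
  allBelow_glue (allBelow_glue (allBelow_glue (allBelow_glue (allBelow_glue (allBelow_glue (allBelow_glue (allBelow_glue (allBelow_glue (allBelow_glue (allBelow_glue (allBelow_glue (allBelow_glue (allBelow_glue (allBelow_glue (allBelow_glue (allBelow_glue (allBelow_glue (allBelow_glue (allBelow_glue (allBelow_glue (allBelow_glue (allBelow_glue (allBelow_glue (allBelow_glue (allBelow_glue (tree5_0) tree5_1) tree5_2) tree5_3) tree5_4) tree5_5) tree5_6) tree5_7) tree5_8) tree5_9) tree5_10) tree5_11) tree5_12) tree5_13) tree5_14) tree5_15) tree5_16) tree5_17) tree5_18) tree5_19) tree5_20) tree5_21) tree5_22) tree5_23) tree5_24) tree5_25) tree5_26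

end H91.Th
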