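import Cfsg.Agent.H77.HN.Checks
import Cfsg.Agent.H91.Th.Cert

/-! The tree of orbit 6. -/

set_option autoImplicit false
set_option maxRecDepth 100000
set_option Elab.async false

namespace H91.Th

open H77.HN (allBelow allBelow_glue)

theorem tree6_0 : allBelow (cert.treeEntry 6) 0 637 = true := by decide +kernel

theorem tree6_1 : allBelow (cert.treeEntry 6) 637 637 = true := by decide +kernel

theorem tree6_2 : allBelow (cert.treeEntry 6) 1274 637 = true := by decide +kernel

theorem tree6_3 : allBelow (cert.treeEntry 6) 1911 637 = true := by decide +kernel

theorem tree6_4 : allBelow (cert.treeEntry 6) 2548 637 = true := by decide +kernel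

theorem tree6_5 : allBelow (cert.treeEntry 6) 3185 637 = true := by decide +kernel

theorem tree6_6 : allBelow (cert.treeEntry 6) 3822 637 = true := by decide +kernel

theorem tree6_7 : allBelow (cert.treeEntry 6) 4459 637 = true := by decide +kernel

theorem tree6_8 : allBelow (cert.treeEntry 6) 5096 637 = true := by decide +kernel

theorem tree6_9 : allBelow (cert.treeEntry 6) 5733 637 = true := by decide +kernel

theorem tree6_10 : allBelow (cert.treeEntry 6) 6370 637 = true := by decide +kernel

theorem tree6_11 : allBelow (cert.treeEntry 6) 7007 637 = true := by decide +kernel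

theorem tree6_12 : allBelow (cert.treeEntry 6) 7644 637 = true := by decide +kernel

theorem tree6_13 : allBelow (cert.treeEntry 6) 8281 637 = true := by decide +kernel

theorem tree6_14 : allBelow (cert.treeEntry 6) 8918 637 = true := by decide +kernel

theorem tree6_15 : allBelow (cert.treeEntry 6) 9555 637 = true := by decide +kernel

theorem tree6_16 : allBelow (cert.treeEntry 6) 10192 637 = true := by decide +kernel

theorem tree6_17 : allBelow (cert.treeEntry 6) 10829 637 = true := by decide +kernel

theorem tree6_18 : allBelow (cert.treeEntry 6) 11466 637 = true := by decide +kernel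

theorem tree6_19 : allBelow (cert.treeEntry 6) 12103 637 = true := by decide +kernel

theorem tree6_20 : allBelow (cert.treeEntry 6) 12740 637 = true := by decide +kernel

theorem tree6_21 : allBelow (cert.treeEntry 6) 13377 637 = true := by decide +kernel

theorem tree6_22 : allBelow (cert.treeEntry 6) 14014 637 = true := by decide +kernel

theorem tree6_23 : allBelow (cert.treeEntry 6) 14651 637 = true := by decide +kernel

theorem tree6_24 : allBelow (cert.treeEntry 6) 15288 637 = true := by decide +kernel

theorem tree6_25 : allBelow (cert.treeEntry 6) 15925 637 = true := by decide +kernel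

theorem tree6_26 : allBelow (cert.treeEntry 6) 16562 637 = true := by decide +kernel

theorem tree6_ok : allBelow (cert.treeEntry 6) 0 17199 = true :=
  allBelow_glue (allBelow_glue (allBelow_glue (allBelow_glue (allBelow_glue (allBelow_glue (allBelow_glue (allBelow_glue (allBelow_glue (allBelow_glue (allBelow_glue (allBelow_glue (allBelow_glue (allBelow_glue (allBelow_glue (allBelow_glue (allBelow_glue (allBelow_glue (allBelow_glue (allBelow_glue (allBelow_glue (allBelow_glue (allBelow_glue (allBelow_glue (allBelow_glue (allBelow_glue (tree6_0) tree6_1) tree6_2) tree6_3) tree6_4) tree6_5) tree6_6) tree6_7) tree6_8) tree6_9) tree6_10) tree6_11) tree6_12) tree6_13) tree6_14) tree6_15) tree6_16) tree6_17) tree6_18) tree6_19) tree6_20) tree6_21) tree6_22) tree6_23) tree6_24) tree6_25) tree6_26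

end H91.Th
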