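import Cfsg.Agent.H77.HN.Checks
import Cfsg.Agent.H91.Th.Cert

/-! The tree of orbit 7. -/

set_option autoImplicit false
set_option maxRecDepth 100000
set_option Elab.async false

namespace H91.Th

open H77.HN (allBelow allBelow_glue)

theorem tree7_0 : allBelow (cert.treeEntry 7) 0 637 = true := by decide +kernel

theorem tree7_1 : allBelow (cert.treeEntry 7) 637 637 = true := by decide +kernel

theorem tree7_2 : allBelow (cert.treeEntry 7) 1274 637 = true := by decide +kernel

theorem tree7_3 : allBelow (cert.treeEntry 7) 1911 637 = true := by decide +kernel

theorem tree7_4 : allBelow (cert.treeEntry 7) 2548 637 = true := by decide +kernel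

theorem tree7_5 : allBelow (cert.treeEntry 7) 3185 637 = true := by decide +kernel

theorem tree7_6 : allBelow (cert.treeEntry 7) 3822 637 = true := by decide +kernel

theorem tree7_7 : allBelow (cert.treeEntry 7) 4459 637 = true := by decide +kernel

theorem tree7_8 : allBelow (cert.treeEntry 7) 5096 637 = true := by decide +kernel

theorem tree7_9 : allBelow (cert.treeEntry 7) 5733 637 = true := by decide +kernel

theorem tree7_10 : allBelow (cert.treeEntry 7) 6370 637 = true := by decide +kernel

theorem tree7_11 : allBelow (cert.treeEntry 7) 7007 637 = true := by decide +kernel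

theorem tree7_12 : allBelow (cert.treeEntry 7) 7644 637 = true := by decide +kernel

theorem tree7_13 : allBelow (cert.treeEntry 7) 8281 637 = true := by decide +kernel

theorem tree7_14 : allBelow (cert.treeEntry 7) 8918 637 = true := by decide +kernel

theorem tree7_15 : allBelow (cert.treeEntry 7) 9555 637 = true := by decide +kernel

theorem tree7_16 : allBelow (cert.treeEntry 7) 10192 637 = true := by decide +kernel

theorem tree7_17 : allBelow (cert.treeEntry 7) 10829 637 = true := by decide +kernel

theorem tree7_18 : allBelow (cert.treeEntry 7) 11466 637 = true := by decide +kernel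

theorem tree7_19 : allBelow (cert.treeEntry 7) 12103 637 = true := by decide +kernel

theorem tree7_20 : allBelow (cert.treeEntry 7) 12740 637 = true := by decide +kernel

theorem tree7_21 : allBelow (cert.treeEntry 7) 13377 637 = true := by decide +kernel

theorem tree7_22 : allBelow (cert.treeEntry 7) 14014 637 = true := by decide +kernel

theorem tree7_23 : allBelow (cert.treeEntry 7) 14651 637 = true := by decide +kernel

theorem tree7_24 : allBelow (cert.treeEntry 7) 15288 637 = true := by decide +kernel

theorem tree7_25 : allBelow (cert.treeEntry 7) 15925 637 = true := by decide +kernel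

theorem tree7_26 : allBelow (cert.treeEntry 7) 16562 637 = true := by decide +kernel

theorem tree7_ok : allBelow (cert.treeEntry 7) 0 17199 = true :=
  allBelow_glue (allBelow_glue (allBelow_glue (allBelow_glue (allBelow_glue (allBelow_glue (allBelow_glue (allBelow_glue (allBelow_glue (allBelow_glue (allBelow_glue (allBelow_glue (allBelow_glue (allBelow_glue (allBelow_glue (allBelow_glue (allBelow_glue (allBelow_glue (allBelow_glue (allBelow_glue (allBelow_glue (allBelow_glue (allBelow_glue (allBelow_glue (allBelow_glue (allBelow_glue (tree7_0) tree7_1) tree7_2) tree7_3) tree7_4) tree7_5) tree7_6) tree7_7) tree7_8) tree7_9) tree7_10) tree7_11) tree7_12) tree7_13) tree7_14) tree7_15) tree7_16) tree7_17) tree7_18) tree7_19) tree7_20) tree7_21) tree7_22) tree7_23) tree7_24) tree7_25) tree7_26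

end H91.Th
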