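import Cfsg.Agent.H77.HN.Checks
import Cfsg.Agent.H91.Th.Cert

/-! The tree of orbit 8. -/

set_option autoImplicit false
set_option maxRecDepth 100000
set_option Elab.async false

namespace H91.Th

open H77.HN (allBelow allBelow_glue)

theorem tree8_0 : allBelow (cert.treeEntry 8) 0 637 = true := by decide +kernel

theorem tree8_1 : allBelow (cert.treeEntry 8) 637 637 = true := by decide +kernel

theorem tree8_2 : allBelow (cert.treeEntry 8) 1274 637 = true := by decide +kernel

theorem tree8_3 : allBelow (cert.treeEntry 8) 1911 637 = true := by decide +kernel

theorem tree8_4 : allBelow (cert.treeEntry 8) 2548 637 = true := by decide +kernel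

theorem tree8_5 : allBelow (cert.treeEntry 8) 3185 637 = true := by decide +kernel

theorem tree8_6 : allBelow (cert.treeEntry 8) 3822 637 = true := by decide +kernel

theorem tree8_7 : allBelow (cert.treeEntry 8) 4459 637 = true := by decide +kernel

theorem tree8_8 : allBelow (cert.treeEntry 8) 5096 637 = true := by decide +kernel

theorem tree8_9 : allBelow (cert.treeEntry 8) 5733 637 = true := by decide +kernel

theorem tree8_10 : allBelow (cert.treeEntry 8) 6370 637 = true := by decide +kernel

theorem tree8_11 : allBelow (cert.treeEntry 8) 7007 637 = true := by decide +kernel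

theorem tree8_12 : allBelow (cert.treeEntry 8) 7644 637 = true := by decide +kernel

theorem tree8_13 : allBelow (cert.treeEntry 8) 8281 637 = true := by decide +kernel

theorem tree8_14 : allBelow (cert.treeEntry 8) 8918 637 = true := by decide +kernel

theorem tree8_15 : allBelow (cert.treeEntry 8) 9555 637 = true := by decide +kernel

theorem tree8_16 : allBelow (cert.treeEntry 8) 10192 637 = true := by decide +kernel

theorem tree8_17 : allBelow (cert.treeEntry 8) 10829 637 = true := by decide +kernel

theorem tree8_18 : allBelow (cert.treeEntry 8) 11466 637 = true := by decide +kernel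

theorem tree8_19 : allBelow (cert.treeEntry 8) 12103 637 = true := by decide +kernel

theorem tree8_20 : allBelow (cert.treeEntry 8) 12740 637 = true := by decide +kernel

theorem tree8_21 : allBelow (cert.treeEntry 8) 13377 637 = true := by decide +kernel

theorem tree8_22 : allBelow (cert.treeEntry 8) 14014 637 = true := by decide +kernel

theorem tree8_23 : allBelow (cert.treeEntry 8) 14651 637 = true := by decide +kernel

theorem tree8_24 : allBelow (cert.treeEntry 8) 15288 637 = true := by decide +kernel

theorem tree8_25 : allBelow (cert.treeEntry 8) 15925 637 = true := by decide +kernel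

theorem tree8_26 : allBelow (cert.treeEntry 8) 16562 637 = true := by decide +kernel

theorem tree8_ok : allBelow (cert.treeEntry 8) 0 17199 = true :=
  allBelow_glue (allBelow_glue (allBelow_glue (allBelow_glue (allBelow_glue (allBelow_glue (allBelow_glue (allBelow_glue (allBelow_glue (allBelow_glue (allBelow_glue (allBelow_glue (allBelow_glue (allBelow_glue (allBelow_glue (allBelow_glue (allBelow_glue (allBelow_glue (allBelow_glue (allBelow_glue (allBelow_glue (allBelow_glue (allBelow_glue (allBelow_glue (allBelow_glue (allBelow_glue (tree8_0) tree8_1) tree8_2) tree8_3) tree8_4) tree8_5) tree8_6) tree8_7) tree8_8) tree8_9) tree8_10) tree8_11) tree8_12) tree8_13) tree8_14) tree8_15) tree8_16) tree8_17) tree8_18) tree8_19) tree8_20) tree8_21) tree8_22) tree8_23) tree8_24) tree8_25) tree8_26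

end H91.Th
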