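import Cfsg.Agent.H77.HN.Checks
import Cfsg.Agent.H91.Th.Cert

/-! The tree of orbit 9. -/

set_option autoImplicit false
set_option maxRecDepth 100000
set_option Elab.async false

namespace H91.Th

open H77.HN (allBelow allBelow_glue)

theorem tree9_0 : allBelow (cert.treeEntry 9) 0 637 = true := by decide +kernel

theorem tree9_1 : allBelow (cert.treeEntry 9) 637 637 = true := by decide +kernel

theorem tree9_2 : allBelow (cert.treeEntry 9) 1274 637 = true := by decide +kernel

theorem tree9_3 : allBelow (cert.treeEntry 9) 1911 637 = true := by decide +kernel

theorem tree9_4 : allBelow (cert.treeEntry 9) 2548 637 = true := by decide +kernel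

theorem tree9_5 : allBelow (cert.treeEntry 9) 3185 637 = true := by decide +kernel

theorem tree9_6 : allBelow (cert.treeEntry 9) 3822 637 = true := by decide +kernel

theorem tree9_7 : allBelow (cert.treeEntry 9) 4459 637 = true := by decide +kernel

theorem tree9_8 : allBelow (cert.treeEntry 9) 5096 637 = true := by decide +kernel

theorem tree9_9 : allBelow (cert.treeEntry 9) 5733 637 = true := by decide +kernel

theorem tree9_10 : allBelow (cert.treeEntry 9) 6370 637 = true := by decide +kernel

theorem tree9_11 : allBelow (cert.treeEntry 9) 7007 637 = true := by decide +kernel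

theorem tree9_12 : allBelow (cert.treeEntry 9) 7644 637 = true := by decide +kernel

theorem tree9_13 : allBelow (cert.treeEntry 9) 8281 637 = true := by decide +kernel

theorem tree9_14 : allBelow (cert.treeEntry 9) 8918 637 = true := by decide +kernel

theorem tree9_15 : allBelow (cert.treeEntry 9) 9555 637 = true := by decide +kernel

theorem tree9_16 : allBelow (cert.treeEntry 9) 10192 637 = true := by decide +kernel

theorem tree9_17 : allBelow (cert.treeEntry 9) 10829 637 = true := by decide +kernel

theorem tree9_18 : allBelow (cert.treeEntry 9) 11466 637 = true := by decide +kernel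

theorem tree9_19 : allBelow (cert.treeEntry 9) 12103 637 = true := by decide +kernel

theorem tree9_20 : allBelow (cert.treeEntry 9) 12740 637 = true := by decide +kernel

theorem tree9_21 : allBelow (cert.treeEntry 9) 13377 637 = true := by decide +kernel

theorem tree9_22 : allBelow (cert.treeEntry 9) 14014 637 = true := by decide +kernel

theorem tree9_23 : allBelow (cert.treeEntry 9) 14651 637 = true := by decide +kernel

theorem tree9_24 : allBelow (cert.treeEntry 9) 15288 637 = true := by decide +kernel

theorem tree9_25 : allBelow (cert.treeEntry 9) 15925 637 = true := by decide +kernel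

theorem tree9_26 : allBelow (cert.treeEntry 9) 16562 637 = true := by decide +kernel

theorem tree9_ok : allBelow (cert.treeEntry 9) 0 17199 = true :=
  allBelow_glue (allBelow_glue (allBelow_glue (allBelow_glue (allBelow_glue (allBelow_glue (allBelow_glue (allBelow_glue (allBelow_glue (allBelow_glue (allBelow_glue (allBelow_glue (allBelow_glue (allBelow_glue (allBelow_glue (allBelow_glue (allBelow_glue (allBelow_glue (allBelow_glue (allBelow_glue (allBelow_glue (allBelow_glue (allBelow_glue (allBelow_glue (allBelow_glue (allBelow_glue (tree9_0) tree9_1) tree9_2) tree9_3) tree9_4) tree9_5) tree9_6) tree9_7) tree9_8) tree9_9) tree9_10) tree9_11) tree9_12) tree9_13) tree9_14) tree9_15) tree9_16) tree9_17) tree9_18) tree9_19) tree9_20) tree9_21) tree9_22) tree9_23) tree9_24) tree9_25) tree9_26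

end H91.Th
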