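import Cfsg.Agent.H91.Th.Cert
import Cfsg.Agent.H91.Th.DC.Append
import Cfsg.Agent.H91.Th.Data.States
import Cfsg.Agent.H91.Th.Data.Deds0

/-! Part 0 of the deductions. -/

set_option autoImplicit false
set_option maxRecDepth 100000
set_option Elab.async false

namespace H91.Th

theorem deds0_0_ok : cert.dedAll Data.known0 Data.deds0_0 = some Data.mid0_1 := by decide +kernel

theorem deds0_1_ok : cert.dedAll Data.mid0_1 Data.deds0_1 = some Data.mid0_2 := by decide +kernel

theorem deds0_2_ok : cert.dedAll Data.mid0_2 Data.deds0_2 = some Data.mid0_3 := by decide +kernel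

theorem deds0_3_ok : cert.dedAll Data.mid0_3 Data.deds0_3 = some Data.mid0_4 := by decide +kernel

theorem deds0_4_ok : cert.dedAll Data.mid0_4 Data.deds0_4 = some Data.mid0_5 := by decide +kernel

theorem deds0_5_ok : cert.dedAll Data.mid0_5 Data.deds0_5 = some Data.mid0_6 := by decide +kernel

theorem deds0_6_ok : cert.dedAll Data.mid0_6 Data.deds0_6 = some Data.mid0_7 := by decide +kernel

theorem deds0_7_ok : cert.dedAll Data.mid0_7 Data.deds0_7 = some Data.mid0_8 := by decide +kernel

theorem deds0_8_ok : cert.dedAll Data.mid0_8 Data.deds0_8 = some Data.mid0_9 := by decide +kernel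

theorem deds0_9_ok : cert.dedAll Data.mid0_9 Data.deds0_9 = some Data.mid0_10 := by decide +kernel

theorem deds0_10_ok : cert.dedAll Data.mid0_10 Data.deds0_10 = some Data.mid0_11 := by decide +kernel

theorem deds0_11_ok : cert.dedAll Data.mid0_11 Data.deds0_11 = some Data.mid0_12 := by decide +kernel

theorem deds0_12_ok : cert.dedAll Data.mid0_12 Data.deds0_12 = some Data.mid0_13 := by decide +kernel

theorem deds0_13_ok : cert.dedAll Data.mid0_13 Data.deds0_13 = some Data.mid0_14 := by decide +kernel

theorem deds0_14_ok : cert.dedAll Data.mid0_14 Data.deds0_14 = some Data.known1 := by decide +kernel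

theorem deds0_ok : cert.dedAll Data.known0 Data.deds0 = some Data.known1 :=
  DC.Cert.dedAll_append (DC.Cert.dedAll_append (DC.Cert.dedAll_append (DC.Cert.dedAll_append (DC.Cert.dedAll_append (DC.Cert.dedAll_append (DC.Cert.dedAll_append (DC.Cert.dedAll_append (DC.Cert.dedAll_append (DC.Cert.dedAll_append (DC.Cert.dedAll_append (DC.Cert.dedAll_append (DC.Cert.dedAll_append (DC.Cert.dedAll_append (deds0_0_ok) deds0_1_ok) deds0_2_ok) deds0_3_ok) deds0_4_ok) deds0_5_ok) deds0_6_ok) deds0_7_ok) deds0_8_ok) deds0_9_ok) deds0_10_ok) deds0_11_ok) deds0_12_ok) deds0_13_ok) deds0_14_ok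

end H91.Th
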