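import Cfsg.Agent.H77.HN.Checks
import Cfsg.Agent.H91.Th.Cert

/-! The tree of orbit 1. -/

set_option autoImplicit false
set_option maxRecDepth 100000
set_option Elab.async false

namespace H91.Th

open H77.HN (allBelow allBelow_glue)

theorem tree1_0 : allBelow (cert.treeEntry 1) 0 637 = true := by decide +kernel

theorem tree1_1 : allBelow (cert.treeEntry 1) 637 637 = true := by decide +kernel

theorem tree1_2 : allBelow (cert.treeEntry 1) 1274 637 = true := by decide +kernel

theorem tree1_3 : allBelow (cert.treeEntry 1) 1911 637 = true := by decide +kernel

theorem tree1_4 : allBelow (cert.treeEntry 1) 2548 637 = true := by decide +kernel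

theorem tree1_5 : allBelow (cert.treeEntry 1) 3185 637 = true := by decide +kernel

theorem tree1_6 : allBelow (cert.treeEntry 1) 3822 637 = true := by decide +kernel

theorem tree1_7 : allBelow (cert.treeEntry 1) 4459 637 = true := by decide +kernel

theorem tree1_8 : allBelow (cert.treeEntry 1) 5096 637 = true := by decide +kernel

theorem tree1_9 : allBelow (cert.treeEntry 1) 5733 637 = true := by decide +kernel

theorem tree1_10 : allBelow (cert.treeEntry 1) 6370 637 = true := by decide +kernel

theorem tree1_11 : allBelow (cert.treeEntry 1) 7007 637 = true := by decide +kernel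

theorem tree1_12 : allBelow (cert.treeEntry 1) 7644 637 = true := by decide +kernel

theorem tree1_13 : allBelow (cert.treeEntry 1) 8281 637 = true := by decide +kernel

theorem tree1_14 : allBelow (cert.treeEntry 1) 8918 637 = true := by decide +kernel

theorem tree1_15 : allBelow (cert.treeEntry 1) 9555 637 = true := by decide +kernel

theorem tree1_16 : allBelow (cert.treeEntry 1) 10192 637 = true := by decide +kernel

theorem tree1_17 : allBelow (cert.treeEntry 1) 10829 637 = true := by decide +kernel

theorem tree1_18 : allBelow (cert.treeEntry 1) 11466 637 = true := by decide +kernel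

theorem tree1_19 : allBelow (cert.treeEntry 1) 12103 637 = true := by decide +kernel

theorem tree1_20 : allBelow (cert.treeEntry 1) 12740 637 = true := by decide +kernel

theorem tree1_21 : allBelow (cert.treeEntry 1) 13377 637 = true := by decide +kernel

theorem tree1_22 : allBelow (cert.treeEntry 1) 14014 637 = true := by decide +kernel

theorem tree1_23 : allBelow (cert.treeEntry 1) 14651 637 = true := by decide +kernel

theorem tree1_24 : allBelow (cert.treeEntry 1) 15288 637 = true := by decide +kernel

theorem tree1_25 : allBelow (cert.treeEntry 1) 15925 637 = true := by decide +kernel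

theorem tree1_26 : allBelow (cert.treeEntry 1) 16562 637 = true := by decide +kernel

theorem tree1_ok : allBelow (cert.treeEntry 1) 0 17199 = true :=
  allBelow_glue (allBelow_glue (allBelow_glue (allBelow_glue (allBelow_glue (allBelow_glue (allBelow_glue (allBelow_glue (allBelow_glue (allBelow_glue (allBelow_glue (allBelow_glue (allBelow_glue (allBelow_glue (allBelow_glue (allBelow_glue (allBelow_glue (allBelow_glue (allBelow_glue (allBelow_glue (allBelow_glue (allBelow_glue (allBelow_glue (allBelow_glue (allBelow_glue (allBelow_glue (tree1_0) tree1_1) tree1_2) tree1_3) tree1_4) tree1_5) tree1_6) tree1_7) tree1_8) tree1_9) tree1_10) tree1_11) tree1_12) tree1_13) tree1_14) tree1_15) tree1_16) tree1_17) tree1_18) tree1_19) tree1_20) tree1_21) tree1_22) tree1_23) tree1_24) tree1_25) tree1_26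

end H91.Th
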